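import Cfsg.Agent.Lib.Sporadic.J3Check

/-! Kernel checks of the J3 certificate: the commutant. -/

set_option autoImplicit false
set_option maxRecDepth 20000

namespace CfsgLib.Sporadic.J3

open Cfsg.Spor Data

/-- The combination of powers of the element of order 19. -/
noncomputable def mSum (x : ℕ) (n : ℕ) : ℕ :=
  Nat.rec 0 (fun i acc => Nat.xor acc (mm (cvec.getD i 0) (mpow x i))) n

noncomputable def mCode : ℕ := Nat.xor (mSum (wcode word19) 9) (wcode word17)

namespace Valid

theorem comm_ok : (Nat.beq (mm vMat vInv) one && Nat.beq (mm lMat mCode) qMat) = true := by decide +kernel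

theorem cvec_ok : ∀ i < 9, cvec.getD i 0 = 0 ∨ cvec.getD i 0 = sc 0 ∨ cvec.getD i 0 = sc 1 ∨ cvec.getD i 0 = sc 2 := by
  decide +kernel

theorem vMat_bits : ∀ i a : F9,
    (p0 vMat).testBit (9 * ix a + ix i) = (p0 (mpow (wcode word19) (ix i))).testBit (9 * ix a) ∧
    (p1 vMat).testBit (9 * ix a + ix i) = (p1 (mpow (wcode word19) (ix i))).testBit (9 * ix a) := by
  decide +kernel

theorem mCode_bits : ∀ a : F9,
    (p0 mCode).testBit (9 * ix a) = false ∧ (p1 mCode).testBit (9 * ix a) = false := by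
  decide +kernel

theorem qMat_bits : ∀ a b : F9,
    (p0 qMat).testBit (9 * ix a + ix b) = (decide (a = b) && decide (a ≠ 0)) ∧
    (p1 qMat).testBit (9 * ix a + ix b) = false := by
  decide +kernel

theorem kill_ok : (Nat.beq (mm (sgen.getD 0 0) (sgen.getD 0 0)) one && Nat.beq (mpow (sgen.getD 1 0) 9) one &&
    Nat.beq (Nat.gcd (2 * killT.1.count 1 * killT.2) 9) 1 &&
    Nat.beq (Nat.gcd (killS.1.count 0 * killS.2) 2) 1) = true := by decide +kernel

end Valid

end CfsgLib.Sporadic.J3
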