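import Cfsg.Agent.Lib.Sporadic.J3Check

/-! Kernel checks of the J3 certificate: edge. -/

set_option autoImplicit false
set_option maxRecDepth 20000

namespace CfsgLib.Sporadic.J3.Valid

open Data

theorem edge0 : block edgeOK 0 4104 = true := by decide +kernel

theorem edge1 : block edgeOK 4104 4104 = true := by decide +kernel

theorem edge2 : block edgeOK 8208 4104 = true := by decide +kernel

theorem edge_all : ∀ i < 12312, edgeOK i = true := by
  intro i hi
  rcases Nat.lt_or_ge i 4104 with h0 | h0
  · exact block_elim edge0 (by omega) (by omega)
  rcases Nat.lt_or_ge i 8208 with h1 | h1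
  · exact block_elim edge1 (by omega) (by omega)
  exact block_elim edge2 (by omega) (by omega)

end CfsgLib.Sporadic.J3.Valid
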