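import Cfsg.Agent.Lib.Sporadic.J3Check

/-! Kernel checks of the J3 certificate: kPar. -/

set_option autoImplicit false
set_option maxRecDepth 20000

namespace CfsgLib.Sporadic.J3.Valid

open Data

theorem kPar0 : block kParOK 0 2040 = true := by decide +kernel

theorem kPar1 : block kParOK 2040 2040 = true := by decide +kernel

theorem kPar2 : block kParOK 4080 2040 = true := by decide +kernel

theorem kPar3 : block kParOK 6120 2040 = true := by decide +kernel

theorem kPar_all : ∀ i < 8160, kParOK i = true := by
  intro i hi
  rcases Nat.lt_or_ge i 2040 with h0 | h0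
  · exact block_elim kPar0 (by omega) (by omega)
  rcases Nat.lt_or_ge i 4080 with h1 | h1
  · exact block_elim kPar1 (by omega) (by omega)
  rcases Nat.lt_or_ge i 6120 with h2 | h2
  · exact block_elim kPar2 (by omega) (by omega)
  exact block_elim kPar3 (by omega) (by omega)

end CfsgLib.Sporadic.J3.Valid
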