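import Cfsg.Agent.Lib.Sporadic.J3Check

/-! Kernel checks of the J3 certificate: kTr. -/

set_option autoImplicit false
set_option maxRecDepth 20000

namespace CfsgLib.Sporadic.J3.Valid

open Data

theorem kTr0 : block kTrOK 0 4080 = true := by decide +kernel

theorem kTr1 : block kTrOK 4080 4080 = true := by decide +kernel

theorem kTr2 : block kTrOK 8160 4080 = true := by decide +kernel

theorem kTr3 : block kTrOK 12240 4080 = true := by decide +kernel

theorem kTr4 : block kTrOK 16320 4080 = true := by decide +kernel

theorem kTr5 : block kTrOK 20400 4080 = true := by decide +kernel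

theorem kTr_all : ∀ i < 24480, kTrOK i = true := by
  intro i hi
  rcases Nat.lt_or_ge i 4080 with h0 | h0
  · exact block_elim kTr0 (by omega) (by omega)
  rcases Nat.lt_or_ge i 8160 with h1 | h1
  · exact block_elim kTr1 (by omega) (by omega)
  rcases Nat.lt_or_ge i 12240 with h2 | h2
  · exact block_elim kTr2 (by omega) (by omega)
  rcases Nat.lt_or_ge i 16320 with h3 | h3
  · exact block_elim kTr3 (by omega) (by omega)
  rcases Nat.lt_or_ge i 20400 with h4 | h4
  · exact block_elim kTr4 (by omega) (by omega)
  exact block_elim kTr5 (by omega) (by omega)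

end CfsgLib.Sporadic.J3.Valid
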