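import Cfsg.Agent.Lib.Sporadic.J3Check

/-! Kernel checks of the J3 certificate: rPar. -/

set_option autoImplicit false
set_option maxRecDepth 20000

namespace CfsgLib.Sporadic.J3.Valid

open Data

theorem rPar0 : block rParOK 0 3078 = true := by decide +kernel

theorem rPar1 : block rParOK 3078 3078 = true := by decide +kernel

theorem rPar_all : ∀ i < 6156, rParOK i = true := by
  intro i hi
  rcases Nat.lt_or_ge i 3078 with h0 | h0
  · exact block_elim rPar0 (by omega) (by omega)
  exact block_elim rPar1 (by omega) (by omega)

end CfsgLib.Sporadic.J3.Valid
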