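import Cfsg.Agent.Lib.Sporadic.J3Check

/-! Kernel checks of the J3 certificate: small. -/

set_option autoImplicit false
set_option maxRecDepth 20000

namespace CfsgLib.Sporadic.J3.Valid

open Data

theorem two_ok : two.ok = true := by decide +kernel

theorem three_ok : three.ok = true := by decide +kernel

theorem base_ok : (Nat.beq (get2 kel 0) one && Nat.beq (get2 rel 0) one &&
    Nat.beq (mm (sgen.getD 0 0) (sgen.getD 2 0)) one && Nat.beq (mm (sgen.getD 2 0) (sgen.getD 0 0)) one &&
    Nat.beq (mm (sgen.getD 1 0) (sgen.getD 3 0)) one && Nat.beq (mm (sgen.getD 3 0) (sgen.getD 1 0)) one) = true := by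
  decide +kernel

theorem kword_ok : forallLt 3 (fun a => Nat.beq (kgen.getD a 0)
    (mpow (wcode (kword.getD a ([], 0)).1) (kword.getD a ([], 0)).2) &&
    (kword.getD a ([], 0)).1.all (Nat.blt · 2)) = true := by decide +kernel

theorem scal_ok : (Nat.beq (mpow (wcode scalWord.1) scalWord.2) (sc 1) && scalWord.1.all (Nat.blt · 2)) = true := by
  decide +kernel

theorem sc_mul_ok : forallLt 9 (fun n => Nat.beq (mm (sc (Nat.div n 3)) (sc (Nat.mod n 3)))
    (sc (Nat.mod (Nat.add (Nat.div n 3) (Nat.mod n 3)) 3))) = true := by decide +kernel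

theorem words_ok : ((word19.all (Nat.blt · 2)) && (word17.all (Nat.blt · 2)) && (word5.all (Nat.blt · 2)) &&
    Nat.beq (mpow (wcode word19) 19) one && Nat.beq (mpow (wcode word17) 17) one &&
    Nat.beq (mpow (wcode word5) 5) one && ! Nat.beq (wcode word19) one && ! Nat.beq (wcode word17) one &&
    ! Nat.beq (wcode word5) one && (killT.1.all (Nat.blt · 2)) && (killS.1.all (Nat.blt · 2)) &&
    Nat.beq (mpow (wcode killT.1) killT.2) one && Nat.beq (mpow (wcode killS.1) killS.2) one) = true := by
  decide +kernel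

theorem gtri_ok : forallLt 45 (fun n => Nat.beq (gcode.getD n 0) 0 ||
    (tripleOK (gtri.getD n 0) && Nat.beq (triple (gtri.getD n 0)) (gcode.getD n 0))) = true := by decide +kernel

end CfsgLib.Sporadic.J3.Valid
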